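/-
The second conclusion: Frattini in Z ⊔ O(G) gives G = O(G) N(Z) = O(G) N(W), and G / O(G) W ≃ N(W) / W O(N(W)).
-/
import Cfsg.Agent.SPOR.RuQ.FrB
import Cfsg.Agent.S3204

set_option autoImplicit false

namespace CL.RuQ

open CL.MSS Subgroup Cfsg
variable {G : Type*} [Group G] [Finite G]

omit [Finite G] in
theorem normal_core_sup {M X : Subgroup G} (h : ∀ g : G, ∃ o ∈ oddCore G, ∃ m ∈ M, g = o * m)
    (hX : M ≤ normalizer (X : Set G)) : (oddCore G ⊔ X).Normal := normalizer_eq_top_iff.1 (eq_top_iff.2 fun g _ => by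
  obtain ⟨o, ho, m, hm, rfl⟩ := h g
  refine mul_mem (le_normalizer (mem_sup_left ho)) ?_
  rw [mem_normalizer_iff_cj, cj_sup, cj_eq_of_mem_normalizer (hX hm),
    cj_eq_of_mem_normalizer (le_normalizer_of_normal (mem_top m))])

theorem opOf_le_core {M : Subgroup G} (h : ∀ g : G, ∃ o ∈ oddCore G, ∃ m ∈ M, g = o * m) :
    PComp.opOf 2 M ≤ oddCore G :=
  have := normal_core_sup h (PComp.le_normalizer_opOf 2 M)
  le_sup_right.trans (PComp.le_pPrimeCore (sup_comm (PComp.opOf 2 M) (oddCore G) ▸ PComp.coprime_card_sup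
    (le_top.trans le_normalizer_of_normal) (PComp.opOf_coprime 2 M) (PComp.pPrimeCore_coprime 2)))

theorem concl2' (T : Sylow 2 G) {W N : Subgroup (T : Subgroup G)} (h : RuT.Ru W N)
    (h2 : ∀ H : Subgroup G, H.index ≠ 2)
    (hn : ((RuT.Z (T : Subgroup G) 3).map (T : Subgroup G).subtype ⊔ oddCore G).Normal) :
    ∃ (K : Subgroup G) (_ : K.Normal), K = oddCore G ⊔ W.map (T : Subgroup G).subtype ∧
      Nonempty (G ⧸ K ≃* GL (Fin 3) (ZMod 2)) := by
  have : Fact (Nat.Prime 2) := ⟨Nat.prime_two⟩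
  obtain ⟨k1, _, ⟨φ⟩⟩ := Agent.S3204.result T h.big h.z4 W h.hW
    (by rw [← card_map_of_injective W.subtype_injective, ← h.hN]; exact h.cN)
    (fun U hU => (map_le_map_iff_of_injective W.subtype_injective).1 (h.hN ▸ h.hd _ (map_subtype_le U) (by
      rwa [relIndex, subgroupOf, comap_map_eq_self_of_injective W.subtype_injective]))) h2 _ _ _ _ rfl rfl rfl rfl
  rw [map_subtype_commutator, h.der] at k1
  have pD : IsPGroup 2 ((RuT.Z (T : Subgroup G) 3).map (T : Subgroup G).subtype) :=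
    T.isPGroup'.to_le (map_subtype_le _)
  generalize (RuT.Z (T : Subgroup G) 3).map (T : Subgroup G).subtype = D at k1 hn pD
  generalize W.map (T : Subgroup G).subtype = V at *
  have hS : SylIn 2 D (D ⊔ oddCore G) := ⟨le_sup_left, pD, fun Q hQ h1 h2 => le_antisymm (fun q hq => by
    obtain ⟨d, hd, o, ho, rfl⟩ := mem_sup_of_normal_right.1 (h2 hq)
    rwa [eq_one_of_odd hQ (PComp.pPrimeCore_coprime 2) ((mul_mem_cancel_left (h1 hd)).1 hq) ho, mul_one]) h1⟩
  have h3 : ∀ g : G, ∃ o ∈ oddCore G, ∃ m ∈ normalizer (D : Set G), g = o * m := fun g => by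
    obtain ⟨c, hc, y, hy, rfl⟩ := hS.frattini (le_normalizer_of_normal (mem_top g))
    obtain ⟨o, ho, d, hd, rfl⟩ := mem_sup_of_normal_left.1 (sup_comm D _ ▸ hc)
    exact ⟨o, ho, _, mul_mem (le_normalizer hd) hy, mul_assoc _ _ _⟩
  have h4 : ∀ g : G, ∃ o ∈ oddCore G, ∃ m ∈ normalizer (V : Set G), g = o * m := fun g => by
    obtain ⟨o, ho, m, hm, rfl⟩ := h3 g
    obtain ⟨o', ho', n, hn, e⟩ := mem_sup_of_normal_left.1 (((sup_comm _ _).trans k1).ge (mem_top ⟨m, hm⟩))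
    exact ⟨_, mul_mem ho (opOf_le_core h3 ((PComp.mem_opOf o').2 ho')), n, hn, by
      rw [mul_assoc, ← coe_mul, e]⟩
  have hK := normal_core_sup h4 le_rfl
  let f := (QuotientGroup.mk' (oddCore G ⊔ V)).comp (normalizer (V : Set G)).subtype
  have hf : Function.Surjective f := fun x => by
    obtain ⟨g, rfl⟩ := QuotientGroup.mk_surjective x
    obtain ⟨o, ho, m, hm, rfl⟩ := h4 g
    exact ⟨⟨m, hm⟩, by rw [QuotientGroup.mk_mul, (QuotientGroup.eq_one_iff o).2 (mem_sup_left ho), one_mul]; rfl⟩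
  have e : V.subgroupOf (normalizer (V : Set G)) ⊔ oddCore _ = f.ker := le_antisymm (sup_le
    (fun x hx => (QuotientGroup.eq_one_iff _).2 (mem_sup_right hx)) fun x hx => (QuotientGroup.eq_one_iff _).2
      (mem_sup_left (opOf_le_core h4 ((PComp.mem_opOf x).2 hx)))) fun x hx => by
    obtain ⟨o, ho, w, hw, e⟩ := mem_sup_of_normal_left.1 ((QuotientGroup.eq_one_iff _).1 hx)
    have k : o ∈ normalizer (V : Set G) := (mul_mem_cancel_right (le_normalizer hw)).1 (e ▸ x.2)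
    rw [show x = ⟨o, k⟩ * ⟨w, le_normalizer hw⟩ from Subtype.ext e.symm]
    exact mul_mem (mem_sup_right ((PComp.mem_opOf _).1 (PComp.inf_le_opOf (le_top.trans le_normalizer_of_normal)
      (PComp.pPrimeCore_coprime 2) ⟨ho, k⟩))) (mem_sup_left hw)
  exact ⟨_, hK, rfl, ⟨((QuotientGroup.quotientMulEquivOfEq e).trans
    (QuotientGroup.quotientKerEquivOfSurjective f hf)).symm.trans φ⟩⟩

end CL.RuQ
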